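import Cfsg.Agent.Ree3.Data
import Cfsg.Prelude.Def_LieTwisted

/-!
# The derived group of `²G₂(3)` is `SL₂(8)`

The coset-free certificate: a table of 504 packed matrices matched with the 504 elements of
`SL₂(8)` along right multiplication by two commutators.
-/

set_option autoImplicit false
set_option maxRecDepth 4000
set_option maxHeartbeats 2000000
set_option synthInstance.maxSize 1024
set_option synthInstance.maxHeartbeats 400000

namespace CfsgLib.Ree3

open Cfsg.Lie

/-- Lookup in blocks of length `n`. -/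
def look {α : Type} (n : ℕ) (L : List (List α)) (i : ℕ) (d : α) : α :=
  (L.getD (i / n) []).getD (i % n) d

/-- The `i`-th matrix. -/
def gC (i : ℕ) : Code := look 32 gDataBlocks i []

/-- The `i`-th element of `SL₂(8)`. -/
def pC (i : ℕ) : Fin 8 × Fin 8 × Fin 8 × Fin 8 := look 32 pDataBlocks i (0, 0, 0, 0)

/-- The transition table. -/
def stepC (i : ℕ) : ℕ × ℕ := look 32 stepDataBlocks i (0, 0)

/-- The spanning tree. -/
def parC (i : ℕ) : ℕ × Bool := look 32 parDataBlocks i (0, false)

/-- A coordinate by position. -/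
def coord (k : ℕ) : Fin 2 ⊕ Fin 12 := if k < 2 then .inl (Fin.ofNat 2 k) else .inr (Fin.ofNat 12 (k - 2))

/-- A packed root element. -/
def xC (r : ℕ) (t : ZMod 3) : Code := xTable.getD (3 * r + ZMod.val t) oneCode

/-- The packed matrix of a word. -/
def codeWord (w : List (ℕ × ZMod 3)) : Code := w.foldr (fun p M => mulCode (xC p.1 p.2) M) oneCode

/-- The generating words. -/
def genWord (g : Bool × ZMod 3 × ZMod 3 × ZMod 3) : List (ℕ × ZMod 3) :=
  if g.1 then reeWordV 1 g.2.1 g.2.2.1 g.2.2.2 else reeWordU 1 g.2.1 g.2.2.1 g.2.2.2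

/-- Index of a generator in the decomposition table. -/
def genIdx (g : Bool × ZMod 3 × ZMod 3 × ZMod 3) : ℕ :=
  (if g.1 then 27 else 0) + 9 * ZMod.val g.2.1 + 3 * ZMod.val g.2.2.1 + ZMod.val g.2.2.2

/-- Powers of the third generator. -/
def powC : ℕ → Code
  | 0 => oneCode
  | k + 1 => mulCode (powC k) codeC

/-- An entry of a root element of `G₂(3)`. -/
def xEntry (r : ℕ) (t : ZMod 3) (a b : Fin 2 ⊕ Fin 12) : ZMod 3 := chevG2.x (ZMod 3) r t a b

theorem xC_ok : ∀ r < 12, ∀ t : ZMod 3,
    (xC r t).length = 14 ∧ ∀ a b : Fin 2 ⊕ Fin 12,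
      rowVal ((xC r t).getD (pos a) (0, 0)) (pos b) = xEntry r t a b := by decide +kernel

theorem genWord_lt : ∀ g : Bool × ZMod 3 × ZMod 3 × ZMod 3, ∀ p ∈ genWord g, p.1 < 12 := by
  decide +kernel

theorem lengths : codeA.length = 14 ∧ codeB.length = 14 ∧ codeC.length = 14 ∧ codeA'.length = 14 ∧
    codeB'.length = 14 ∧ codeC'.length = 14 := by decide +kernel

theorem inverses : mulCode codeA codeA' = oneCode ∧ mulCode codeA' codeA = oneCode ∧
    mulCode codeB codeB' = oneCode ∧ mulCode codeB' codeB = oneCode ∧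
    mulCode codeC codeC' = oneCode ∧ mulCode codeC' codeC = oneCode := by decide +kernel

theorem gC_length : ∀ i < 504, (gC i).length = 14 := by decide +kernel

theorem start_ok : gC 0 = oneCode ∧ pC 0 = (1, 0, 0, 1) := by decide +kernel

theorem step_ok : ∀ i < 504,
    (mulCode (gC i) codeA = gC (stepC i).1 ∧ quadMul (pC i) pA = pC (stepC i).1 ∧
      (stepC i).1 < 504) ∧
    mulCode (gC i) codeB = gC (stepC i).2 ∧ quadMul (pC i) pB = pC (stepC i).2 ∧
      (stepC i).2 < 504 := by decide +kernel

theorem par_ok : ∀ i < 504, i = 0 ∨ ((parC i).1 < i ∧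
    i = if (parC i).2 then (stepC (parC i).1).2 else (stepC (parC i).1).1) := by decide +kernel

theorem wit_ok : ∀ i < 504, i = 0 ∨
    toMat (gC i) (coord (look 32 witDataBlocks i (0, 0)).1) (coord (look 32 witDataBlocks i (0, 0)).2) ≠
      (1 : Matrix (Fin 2 ⊕ Fin 12) (Fin 2 ⊕ Fin 12) (ZMod 3))
        (coord (look 32 witDataBlocks i (0, 0)).1) (coord (look 32 witDataBlocks i (0, 0)).2) := by
  decide +kernel

/-- Position of a quadruple. -/
def lookP (q : Fin 8 × Fin 8 × Fin 8 × Fin 8) : ℕ :=
  look 64 lookupDataBlocks (512 * q.1.val + 64 * q.2.1.val + 8 * q.2.2.1.val + q.2.2.2.val) 0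

theorem lookP_ok : ∀ q : Fin 8 × Fin 8 × Fin 8 × Fin 8, quadDet q = toF8 1 →
    lookP q < 504 ∧ pC (lookP q) = q := by decide +kernel

theorem pC_ok : ∀ i < 504, quadDet (pC i) = toF8 1 ∧ lookP (pC i) = i := by decide +kernel

theorem gen_ok : ∀ g : Bool × ZMod 3 × ZMod 3 × ZMod 3,
    (look 32 genDataBlocks (genIdx g) (0, 0)).1 < 504 ∧
    codeWord (genWord g) =
      mulCode (gC (look 32 genDataBlocks (genIdx g) (0, 0)).1)
        (powC (look 32 genDataBlocks (genIdx g) (0, 0)).2) := by decide +kernel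

theorem conj_ok : mulCode codeC codeA = mulCode (gC conjA) codeC ∧ conjA < 504 ∧
    mulCode codeC codeB = mulCode (gC conjB) codeC ∧ conjB < 504 := by decide +kernel

theorem comm_ok :
    mulCode codeA (mulCode (codeWord (genWord genA2)) (codeWord (genWord genA1))) =
      mulCode (codeWord (genWord genA1)) (codeWord (genWord genA2)) ∧
    mulCode codeB (mulCode (codeWord (genWord genB2)) (codeWord (genWord genB1))) =
      mulCode (codeWord (genWord genB1)) (codeWord (genWord genB2)) ∧
    codeWord (genWord genC) = codeC := by decide +kernel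

theorem invGen_ok :
    (genA1Inv.length = 14 ∧ mulCode (codeWord (genWord genA1)) genA1Inv = oneCode ∧
      mulCode genA1Inv (codeWord (genWord genA1)) = oneCode) ∧
    (genA2Inv.length = 14 ∧ mulCode (codeWord (genWord genA2)) genA2Inv = oneCode ∧
      mulCode genA2Inv (codeWord (genWord genA2)) = oneCode) ∧
    (genB1Inv.length = 14 ∧ mulCode (codeWord (genWord genB1)) genB1Inv = oneCode ∧
      mulCode genB1Inv (codeWord (genWord genB1)) = oneCode) ∧
    (genB2Inv.length = 14 ∧ mulCode (codeWord (genWord genB2)) genB2Inv = oneCode ∧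
      mulCode genB2Inv (codeWord (genWord genB2)) = oneCode) := by decide +kernel

end CfsgLib.Ree3
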