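import Mathlib

/-!
# Packed matrices over `ZMod 3` and the field with eight elements

A row over `ZMod 3` is a pair of bit masks (positions of `1`, positions of `-1`).
-/

set_option autoImplicit false

namespace CfsgLib.Ree3

/-- A packed matrix with fourteen columns. -/
abbrev Code : Type := List (ℕ × ℕ)

/-- The entry in position `j` of a packed row. -/
def rowVal (r : ℕ × ℕ) (j : ℕ) : ZMod 3 :=
  if r.1.testBit j && !r.2.testBit j then 1 else if r.2.testBit j && !r.1.testBit j then -1 else 0

/-- Remove from `p` the positions of `n`. -/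
def without (p n : ℕ) : ℕ := p ^^^ (p &&& n)

theorem testBit_without (p n j : ℕ) :
    (without p n).testBit j = (p.testBit j && !n.testBit j) := by
  unfold without
  rw [Nat.testBit_xor, Nat.testBit_and]
  cases p.testBit j <;> cases n.testBit j <;> rfl

/-- Sum of packed rows, both assumed normalised. -/
def addNorm (a b : ℕ × ℕ) : ℕ × ℕ :=
  (without a.1 (b.1 ||| b.2) ||| without b.1 (a.1 ||| a.2) ||| (a.2 &&& b.2),
   without a.2 (b.1 ||| b.2) ||| without b.2 (a.1 ||| a.2) ||| (a.1 &&& b.1))

/-- Sum of packed rows. -/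
def addRow (a b : ℕ × ℕ) : ℕ × ℕ :=
  addNorm (without a.1 a.2, without a.2 a.1) (without b.1 b.2, without b.2 b.1)

theorem rowVal_addRow (a b : ℕ × ℕ) (j : ℕ) :
    rowVal (addRow a b) j = rowVal a j + rowVal b j := by
  simp only [rowVal, addRow, addNorm, Nat.testBit_or, Nat.testBit_and, testBit_without]
  cases a.1.testBit j <;> cases a.2.testBit j <;> cases b.1.testBit j <;> cases b.2.testBit j <;>
    decide

theorem rowVal_swap (a : ℕ × ℕ) (j : ℕ) : rowVal a.swap j = -rowVal a j := by
  have key : ∀ x y : Bool, (if (y && !x) = true then (1 : ZMod 3)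
      else if (x && !y) = true then -1 else 0) =
      -(if (x && !y) = true then (1 : ZMod 3) else if (y && !x) = true then -1 else 0) := by decide
  exact key (a.1.testBit j) (a.2.testBit j)

/-- Partial product of a row with a packed matrix. -/
def rowMul (r : ℕ × ℕ) (N : Code) : ℕ → ℕ × ℕ
  | 0 => (0, 0)
  | k + 1 =>
    if r.1.testBit k && !r.2.testBit k then addRow (rowMul r N k) (N.getD k (0, 0))
    else if r.2.testBit k && !r.1.testBit k then addRow (rowMul r N k) (N.getD k (0, 0)).swap
    else rowMul r N k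

theorem rowVal_rowMul (r : ℕ × ℕ) (N : Code) (j : ℕ) : ∀ n,
    rowVal (rowMul r N n) j = ∑ k ∈ Finset.range n, rowVal r k * rowVal (N.getD k (0, 0)) j
  | 0 => by simp [rowMul, rowVal]
  | n + 1 => by
    rw [Finset.sum_range_succ, ← rowVal_rowMul r N j n, rowMul]
    by_cases h1 : (r.1.testBit n && !r.2.testBit n) = true
    · have : rowVal r n = 1 := by simp only [rowVal, if_pos h1]
      rw [if_pos h1, rowVal_addRow, this, one_mul]
    · rw [if_neg h1]
      by_cases h2 : (r.2.testBit n && !r.1.testBit n) = true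
      · rw [if_pos h2, rowVal_addRow, rowVal_swap]
        congr 1
        simp only [rowVal, if_neg h1, if_pos h2, neg_one_mul]
      · rw [if_neg h2]
        have : rowVal r n = 0 := by simp only [rowVal, if_neg h1, if_neg h2]
        rw [this, zero_mul, add_zero]

/-- Product of packed matrices. -/
def mulCode (M N : Code) : Code := M.map fun r => rowMul r N 14

/-- The packed identity. -/
def oneCode : Code := (List.range 14).map fun i => (2 ^ i, 0)

/-- The position of a coordinate. -/
def pos : Fin 2 ⊕ Fin 12 → ℕ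
  | .inl i => i
  | .inr r => 2 + r

/-- The matrix of a packed matrix. -/
def toMat (M : Code) : Matrix (Fin 2 ⊕ Fin 12) (Fin 2 ⊕ Fin 12) (ZMod 3) :=
  Matrix.of fun a b => rowVal (M.getD (pos a) (0, 0)) (pos b)

theorem toMat_mul (M N : Code) (hM : M.length = 14) :
    toMat (mulCode M N) = toMat M * toMat N := by
  ext a b
  have ha : pos a < 14 := by rcases a with i | r <;> simp only [pos] <;> omega
  have hg : (mulCode M N).getD (pos a) (0, 0) = rowMul (M.getD (pos a) (0, 0)) N 14 := by
    have h1 : pos a < M.length := by omega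
    simp [mulCode, List.getD_eq_getElem?_getD, List.getElem?_eq_getElem h1]
  simp only [toMat, Matrix.of_apply, Matrix.mul_apply, hg, rowVal_rowMul]
  rw [Fintype.sum_sum_type, Fin.sum_univ_eq_sum_range
      (fun k => rowVal (M.getD (pos a) (0, 0)) k * rowVal (N.getD k (0, 0)) (pos b)) 14 |>.symm]
  simp only [Fin.sum_univ_two, pos, Fin.sum_univ_succ, Finset.univ_eq_empty, Finset.sum_empty]
  simp [add_assoc]

theorem toMat_one : toMat oneCode = 1 := by decide +kernel

/-- The field with eight elements, as bit vectors modulo `x³ + x + 1`. -/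
def F8 : Type := Fin 8

instance f8DecidableEq : DecidableEq F8 := inferInstanceAs (DecidableEq (Fin 8))

instance f8Fintype : Fintype F8 := inferInstanceAs (Fintype (Fin 8))

/-- Multiplication table. -/
def f8Table : List (List (Fin 8)) :=
  [[0, 0, 0, 0, 0, 0, 0, 0], [0, 1, 2, 3, 4, 5, 6, 7], [0, 2, 4, 6, 3, 1, 7, 5],
   [0, 3, 6, 5, 7, 4, 1, 2], [0, 4, 3, 7, 6, 2, 5, 1], [0, 5, 1, 4, 2, 7, 3, 6],
   [0, 6, 7, 1, 5, 3, 2, 4], [0, 7, 5, 2, 1, 6, 4, 3]]

/-- Addition in `F8`. -/
def f8Add (a b : F8) : F8 := Fin.ofNat 8 ((Fin.val (a : Fin 8)) ^^^ (Fin.val (b : Fin 8)))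

/-- Multiplication in `F8`. -/
def f8Mul (a b : F8) : F8 := (f8Table.getD (Fin.val (a : Fin 8)) []).getD (Fin.val (b : Fin 8)) (0 : Fin 8)

/-- Inversion in `F8`. -/
def f8Inv (a : F8) : F8 := f8Mul (f8Mul (f8Mul a a) (f8Mul a a)) (f8Mul a a)

instance f8Zero : Zero F8 := ⟨(0 : Fin 8)⟩

instance f8One : One F8 := ⟨(1 : Fin 8)⟩

instance f8AddInst : Add F8 := ⟨f8Add⟩

instance f8MulInst : Mul F8 := ⟨f8Mul⟩

instance f8Neg : Neg F8 := ⟨fun a => a⟩

instance f8CommRing : CommRing F8 where
  add := f8Add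
  add_assoc := by decide +kernel
  zero := 0
  zero_add := by decide +kernel
  add_zero := by decide +kernel
  nsmul := nsmulRec
  add_comm := by decide +kernel
  mul := f8Mul
  left_distrib := by decide +kernel
  right_distrib := by decide +kernel
  zero_mul := by decide +kernel
  mul_zero := by decide +kernel
  mul_assoc := by decide +kernel
  one := 1
  one_mul := by decide +kernel
  mul_one := by decide +kernel
  neg := fun a => a
  zsmul := zsmulRec
  neg_add_cancel := by decide +kernel
  mul_comm := by decide +kernel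

instance f8Field : Field F8 where
  inv := f8Inv
  exists_pair_ne := ⟨0, 1, by decide +kernel⟩
  mul_inv_cancel := by decide +kernel
  inv_zero := by decide +kernel
  nnqsmul := _
  nnqsmul_def := fun _ _ => rfl
  qsmul := _
  qsmul_def := fun _ _ => rfl

theorem card_f8 : Fintype.card F8 = 8 := by decide +kernel

/-- A residue as an element of `F8`. -/
def toF8 (a : Fin 8) : F8 := a

/-- The two by two matrix of a quadruple. -/
def quadMat (q : Fin 8 × Fin 8 × Fin 8 × Fin 8) : Matrix (Fin 2) (Fin 2) F8 :=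
  !![toF8 q.1, toF8 q.2.1; toF8 q.2.2.1, toF8 q.2.2.2]

/-- Product of quadruples. -/
def quadMul (p q : Fin 8 × Fin 8 × Fin 8 × Fin 8) : Fin 8 × Fin 8 × Fin 8 × Fin 8 :=
  (f8Add (f8Mul p.1 q.1) (f8Mul p.2.1 q.2.2.1), f8Add (f8Mul p.1 q.2.1) (f8Mul p.2.1 q.2.2.2),
   f8Add (f8Mul p.2.2.1 q.1) (f8Mul p.2.2.2 q.2.2.1),
   f8Add (f8Mul p.2.2.1 q.2.1) (f8Mul p.2.2.2 q.2.2.2))

theorem quadMat_mul (p q : Fin 8 × Fin 8 × Fin 8 × Fin 8) :
    quadMat (quadMul p q) = quadMat p * quadMat q := by
  rw [quadMat, quadMat, quadMat, Matrix.mul_fin_two]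
  rfl

/-- The determinant of a quadruple. -/
def quadDet (q : Fin 8 × Fin 8 × Fin 8 × Fin 8) : F8 :=
  f8Add (f8Mul q.1 q.2.2.2) (f8Mul q.2.1 q.2.2.1)

theorem det_quadMat (q : Fin 8 × Fin 8 × Fin 8 × Fin 8) : (quadMat q).det = quadDet q := by
  rw [quadMat, Matrix.det_fin_two_of, sub_eq_add_neg]
  rfl

end CfsgLib.Ree3
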