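import Cfsg.Agent.Ree3.Cert

/-! # `²G₂(3)' ≅ SL₂(8)` -/

set_option autoImplicit false
set_option maxRecDepth 4000
set_option maxHeartbeats 1000000

namespace CfsgLib.Ree3

open Cfsg.Lie
open scoped MatrixGroups commutatorElement

/-- The ambient matrices. -/
abbrev M14 : Type := Matrix (Fin 2 ⊕ Fin 12) (Fin 2 ⊕ Fin 12) (ZMod 3)

/-- The ambient group. -/
abbrev Amb : Type := GL (Fin 2 ⊕ Fin 12) (ZMod 3)

/-- The invertible matrix of a packed matrix with given inverse. -/
def unitC (M M' : Code) (h : M.length = 14 ∧ M'.length = 14 ∧ mulCode M M' = oneCode ∧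
    mulCode M' M = oneCode) : Amb where
  val := toMat M
  inv := toMat M'
  val_inv := by rw [← toMat_mul M M' h.1, h.2.2.1, toMat_one]
  inv_val := by rw [← toMat_mul M' M h.2.1, h.2.2.2, toMat_one]

theorem unitC_val (M M' : Code) (h : M.length = 14 ∧ M'.length = 14 ∧ mulCode M M' = oneCode ∧
    mulCode M' M = oneCode) : (unitC M M' h : M14) = toMat M := rfl

theorem mulCode_length (M N : Code) : (mulCode M N).length = M.length := by simp [mulCode]

theorem oneCode_length : oneCode.length = 14 := rfl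

theorem powC_length : ∀ k, (powC k).length = 14
  | 0 => rfl
  | k + 1 => by rw [powC, mulCode_length, powC_length k]

/-- Generator `A`. -/
def uA : Amb := unitC codeA codeA' ⟨lengths.1, lengths.2.2.2.1, inverses.1, inverses.2.1⟩

/-- Generator `B`. -/
def uB : Amb := unitC codeB codeB' ⟨lengths.2.1, lengths.2.2.2.2.1, inverses.2.2.1, inverses.2.2.2.1⟩

/-- Generator `C`. -/
def uC : Amb :=
  unitC codeC codeC' ⟨lengths.2.2.1, lengths.2.2.2.2.2, inverses.2.2.2.2.1, inverses.2.2.2.2.2⟩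

/-- An element of `SL₂(8)` from a quadruple. -/
noncomputable def slC (q : Fin 8 × Fin 8 × Fin 8 × Fin 8) : Matrix.SpecialLinearGroup (Fin 2) F8 :=
  if h : (quadMat q).det = 1 then (⟨quadMat q, h⟩ : Matrix.SpecialLinearGroup (Fin 2) F8) else 1

theorem slC_val {q : Fin 8 × Fin 8 × Fin 8 × Fin 8} (h : quadDet q = toF8 1) :
    (slC q : Matrix (Fin 2) (Fin 2) F8) = quadMat q := by
  have h' : (quadMat q).det = 1 := by rw [det_quadMat, h]; rfl
  exact congrArg Subtype.val (dif_pos h' : slC q = ⟨quadMat q, h'⟩)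

theorem pA_det : quadDet pA = toF8 1 ∧ quadDet pB = toF8 1 := by decide +kernel

/-- The matched pairs. -/
noncomputable def pairGroup : Subgroup (Amb × Matrix.SpecialLinearGroup (Fin 2) F8) :=
  Subgroup.closure {(uA, slC pA), (uB, slC pB)}

/-- A pair lying in the table. -/
def InTable (x : Amb × Matrix.SpecialLinearGroup (Fin 2) F8) : Prop :=
  ∃ i < 504, (x.1 : Matrix (Fin 2 ⊕ Fin 12) (Fin 2 ⊕ Fin 12) (ZMod 3)) = toMat (gC i) ∧
    x.2 = slC (pC i)

theorem slC_one : slC (1, 0, 0, 1) = 1 := by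
  apply Subtype.ext
  rw [slC_val (by decide +kernel)]
  show quadMat (1, 0, 0, 1) = (1 : Matrix (Fin 2) (Fin 2) F8)
  rw [Matrix.one_fin_two]
  rfl

theorem slC_mul {p q : Fin 8 × Fin 8 × Fin 8 × Fin 8} (hp : quadDet p = toF8 1)
    (hq : quadDet q = toF8 1) (hpq : quadDet (quadMul p q) = toF8 1) :
    slC (quadMul p q) = slC p * slC q := by
  apply Subtype.ext
  rw [Matrix.SpecialLinearGroup.coe_mul, slC_val hp, slC_val hq, slC_val hpq, quadMat_mul]

theorem inTable_one : InTable 1 :=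
  ⟨0, by norm_num, by rw [start_ok.1, toMat_one]; rfl, by rw [start_ok.2, slC_one]; rfl⟩

theorem inTable_mul {x : Amb × Matrix.SpecialLinearGroup (Fin 2) F8} (hx : InTable x) :
    InTable (x * (uA, slC pA)) ∧ InTable (x * (uB, slC pB)) := by
  obtain ⟨i, hi, h1, h2⟩ := hx
  obtain ⟨⟨ha, ha', hla⟩, hb, hb', hlb⟩ := step_ok i hi
  constructor
  · refine ⟨(stepC i).1, hla, ?_, ?_⟩
    · rw [← ha, toMat_mul _ _ (gC_length i hi), ← h1]; rfl
    · rw [← ha', slC_mul (pC_ok i hi).1 pA_det.1 (ha' ▸ (pC_ok _ hla).1), ← h2]; rfl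
  · refine ⟨(stepC i).2, hlb, ?_, ?_⟩
    · rw [← hb, toMat_mul _ _ (gC_length i hi), ← h1]; rfl
    · rw [← hb', slC_mul (pC_ok i hi).1 pA_det.2 (hb' ▸ (pC_ok _ hlb).1), ← h2]; rfl

theorem inTable_of_mem {x : Amb × Matrix.SpecialLinearGroup (Fin 2) F8} (hx : x ∈ pairGroup) :
    InTable x := by
  have key : ∀ y ∈ ({(uA, slC pA), (uB, slC pB)} :
      Set (Amb × Matrix.SpecialLinearGroup (Fin 2) F8)), ∀ z, InTable z → InTable (z * y) := by
    intro y hy z hz
    rcases hy with rfl | rfl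
    exacts [(inTable_mul hz).1, (inTable_mul hz).2]
  refine Subgroup.closure_induction_right (p := fun x _ => InTable x) inTable_one
    (fun z _ y hy hz => key y hy z hz) (fun z _ y hy hz => ?_) hx
  obtain ⟨n, hn⟩ : y⁻¹ ∈ Submonoid.powers y :=
    (isOfFinOrder_of_finite y).mem_powers_iff_mem_zpowers.mpr
      (inv_mem (Subgroup.mem_zpowers y))
  rw [← hn]
  induction n with
  | zero => simpa using hz
  | succ n ih =>
    have : ∀ m, InTable (z * y ^ m) := fun m => by
      induction m with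
      | zero => simpa using hz
      | succ m ihm => rw [pow_succ, ← mul_assoc]; exact key y hy _ ihm
    exact this _

theorem exists_mem : ∀ i, i < 504 → ∃ x ∈ pairGroup,
    (x.1 : Matrix (Fin 2 ⊕ Fin 12) (Fin 2 ⊕ Fin 12) (ZMod 3)) = toMat (gC i) ∧ x.2 = slC (pC i) := by
  intro i
  induction i using Nat.strong_induction_on with
  | _ i ih =>
    intro hi
    rcases par_ok i hi with rfl | ⟨hlt, hpar⟩
    · exact ⟨1, one_mem _, by rw [start_ok.1, toMat_one]; rfl, by rw [start_ok.2, slC_one]; rfl⟩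
    · obtain ⟨x, hx, h1, h2⟩ := ih _ hlt (hlt.trans hi)
      obtain ⟨⟨ha, ha', hla⟩, hb, hb', hlb⟩ := step_ok (parC i).1 (hlt.trans hi)
      rcases hs : (parC i).2 with _ | _ <;> simp only [hs, Bool.false_eq_true, if_false, if_true] at hpar
      · refine ⟨x * (uA, slC pA), mul_mem hx (Subgroup.subset_closure (Or.inl rfl)), ?_, ?_⟩
        · rw [hpar, ← ha, toMat_mul _ _ (gC_length _ (hlt.trans hi)), ← h1]; rfl
        · rw [hpar, ← ha', slC_mul (pC_ok _ (hlt.trans hi)).1 pA_det.1 (ha' ▸ (pC_ok _ hla).1), ← h2]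
          rfl
      · refine ⟨x * (uB, slC pB), mul_mem hx (Subgroup.subset_closure (Or.inr rfl)), ?_, ?_⟩
        · rw [hpar, ← hb, toMat_mul _ _ (gC_length _ (hlt.trans hi)), ← h1]; rfl
        · rw [hpar, ← hb', slC_mul (pC_ok _ (hlt.trans hi)).1 pA_det.2 (hb' ▸ (pC_ok _ hlb).1), ← h2]
          rfl

/-- Every element of `SL₂(8)` is a table entry. -/
theorem exists_index (s : Matrix.SpecialLinearGroup (Fin 2) F8) :
    ∃ i < 504, s = slC (pC i) := by
  let q : Fin 8 × Fin 8 × Fin 8 × Fin 8 :=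
    ((s : Matrix (Fin 2) (Fin 2) F8) 0 0, (s : Matrix (Fin 2) (Fin 2) F8) 0 1,
      (s : Matrix (Fin 2) (Fin 2) F8) 1 0, (s : Matrix (Fin 2) (Fin 2) F8) 1 1)
  have hm : quadMat q = (s : Matrix (Fin 2) (Fin 2) F8) := (Matrix.eta_fin_two _).symm
  have hq : quadDet q = toF8 1 := by rw [← det_quadMat, hm, Matrix.SpecialLinearGroup.det_coe]; rfl
  obtain ⟨hl, hp⟩ := lookP_ok q hq
  exact ⟨lookP q, hl, Subtype.ext (by rw [hp, slC_val hq, hm])⟩

theorem card_sl2_f8 : Nat.card (Matrix.SpecialLinearGroup (Fin 2) F8) = 504 := by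
  rw [← Nat.card_fin 504]
  refine (Nat.card_eq_of_bijective (fun i : Fin 504 => slC (pC i)) ⟨fun i j h => ?_, fun s => ?_⟩).symm
  · have hm : quadMat (pC i) = quadMat (pC j) := by
      rw [← slC_val (pC_ok i i.2).1, ← slC_val (pC_ok j j.2).1]
      exact congrArg Subtype.val h
    have hq : pC i = pC j := by
      have e : ∀ a b, quadMat (pC i) a b = quadMat (pC j) a b := fun a b => by rw [hm]
      exact Prod.ext (e 0 0) (Prod.ext (e 0 1) (Prod.ext (e 1 0) (e 1 1)))
    exact Fin.ext (by rw [← (pC_ok i i.2).2, hq, (pC_ok j j.2).2])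
  · obtain ⟨i, hi, rfl⟩ := exists_index s
    exact ⟨⟨i, hi⟩, rfl⟩

/-- The subgroup generated by the two commutators. -/
def derivedH : Subgroup Amb := Subgroup.closure {uA, uB}

theorem map_fst : pairGroup.map (MonoidHom.fst _ _) = derivedH := by
  rw [pairGroup, MonoidHom.map_closure, Set.image_pair]
  rfl

/-- `⟨A, B⟩ ≅ SL₂(8)`. -/
theorem derivedH_equiv : Nonempty (derivedH ≃* Matrix.SpecialLinearGroup (Fin 2) F8) := by
  let f1 := (MonoidHom.fst Amb (Matrix.SpecialLinearGroup (Fin 2) F8)).comp pairGroup.subtype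
  let f2 := (MonoidHom.snd Amb (Matrix.SpecialLinearGroup (Fin 2) F8)).comp pairGroup.subtype
  have h1 : Function.Injective f1 := (injective_iff_map_eq_one f1).mpr fun x hx => by
    obtain ⟨i, hi, a, b⟩ := inTable_of_mem x.2
    rcases wit_ok i hi with rfl | hw
    · exact Subtype.ext (Prod.ext hx (by rw [b, start_ok.2, slC_one]; rfl))
    · refine absurd ?_ hw
      rw [← a, show x.1.1 = 1 from hx]
      rfl
  have h2 : Function.Injective f2 := (injective_iff_map_eq_one f2).mpr fun x hx => by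
    obtain ⟨i, hi, a, b⟩ := inTable_of_mem x.2
    have hi0 : i = 0 := by
      have hm : slC (pC i) = slC (pC 0) := by
        rw [← b, start_ok.2, slC_one]; exact hx
      have hm' : quadMat (pC i) = quadMat (pC 0) := by
        rw [← slC_val (pC_ok i hi).1, ← slC_val (pC_ok 0 (by norm_num)).1, hm]
      have e : ∀ u v, quadMat (pC i) u v = quadMat (pC 0) u v := fun u v => by rw [hm']
      have hq : pC i = pC 0 := Prod.ext (e 0 0) (Prod.ext (e 0 1) (Prod.ext (e 1 0) (e 1 1)))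
      rw [← (pC_ok i hi).2, hq, (pC_ok 0 (by norm_num)).2]
    subst hi0
    refine Subtype.ext (Prod.ext (Units.ext ?_) hx)
    rw [a, start_ok.1, toMat_one]
    rfl
  have hs : Function.Surjective f2 := fun s => by
    obtain ⟨i, hi, rfl⟩ := exists_index s
    obtain ⟨x, hx, -, b⟩ := exists_mem i hi
    exact ⟨⟨x, hx⟩, b⟩
  have hr : f1.range = derivedH := by
    rw [← map_fst, MonoidHom.range_comp, Subgroup.range_subtype]
  exact ⟨((MulEquiv.subgroupCongr hr).symm.trans (MonoidHom.ofInjective h1).symm).trans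
    (MulEquiv.ofBijective f2 ⟨h2, hs⟩)⟩

/-- The twisted group over the field with three elements. -/
abbrev ree3 : Subgroup Amb := twistedG2 (ZMod 3) 1

theorem toMat_xC {r : ℕ} (hr : r < 12) (t : ZMod 3) : toMat (xC r t) = chevG2.x (ZMod 3) r t :=
  Matrix.ext fun a b => (xC_ok r hr t).2 a b

theorem codeWord_length : ∀ w : List (ℕ × ZMod 3), (∀ p ∈ w, p.1 < 12) → (codeWord w).length = 14
  | [], _ => rfl
  | p :: w, h => by
    rw [codeWord, List.foldr_cons, mulCode_length]
    exact (xC_ok p.1 (h p (by simp)) p.2).1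

theorem toMat_codeWord : ∀ w : List (ℕ × ZMod 3), (∀ p ∈ w, p.1 < 12) →
    toMat (codeWord w) = chevG2.wordMat (ZMod 3) w
  | [], _ => toMat_one
  | p :: w, h => by
    have hp := h p (by simp)
    rw [codeWord, List.foldr_cons, toMat_mul _ _ (xC_ok p.1 hp p.2).1, toMat_xC hp]
    show _ * toMat (codeWord w) = _
    rw [toMat_codeWord w fun q hq => h q (List.mem_cons_of_mem _ hq)]
    simp [ChevalleyDatum.wordMat]
    rfl

theorem genWord_mem (g : Bool × ZMod 3 × ZMod 3 × ZMod 3) :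
    genWord g ∈ g2Words (ZMod 3) 1 := by
  obtain ⟨b, t, u, v⟩ := g
  refine ⟨t, u, v, ?_⟩
  cases b
  · exact Or.inl rfl
  · exact Or.inr rfl

/-- The unit of a generator. -/
def genUnit (g : Bool × ZMod 3 × ZMod 3 × ZMod 3) (M' : Code)
    (h : M'.length = 14 ∧ mulCode (codeWord (genWord g)) M' = oneCode ∧
      mulCode M' (codeWord (genWord g)) = oneCode) : Amb :=
  unitC (codeWord (genWord g)) M' ⟨codeWord_length _ (genWord_lt g), h⟩

theorem genUnit_mem (g : Bool × ZMod 3 × ZMod 3 × ZMod 3) (M' : Code)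
    (h : M'.length = 14 ∧ mulCode (codeWord (genWord g)) M' = oneCode ∧
      mulCode M' (codeWord (genWord g)) = oneCode) : genUnit g M' h ∈ ree3 :=
  Subgroup.subset_closure ⟨genWord g, genWord_mem g, toMat_codeWord _ (genWord_lt g)⟩

theorem uC_mem : uC ∈ ree3 :=
  Subgroup.subset_closure ⟨genWord genC, genWord_mem genC, by
    show toMat codeC = _
    rw [← comm_ok.2.2]
    exact toMat_codeWord _ (genWord_lt genC)⟩

theorem uA_val : (uA : M14) = toMat codeA := rfl

theorem uB_val : (uB : M14) = toMat codeB := rfl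

theorem uC_val : (uC : M14) = toMat codeC := rfl

theorem eq_commutator {x a b : Amb}
    (h : (x : M14) * ((b : M14) * (a : M14)) = (a : M14) * (b : M14)) :
    x = ⁅a, b⁆ := by
  have h' : x * (b * a) = a * b := Units.ext h
  rw [commutatorElement_def, ← h']
  group

theorem uA_mem : uA ∈ ⁅ree3, ree3⁆ := by
  have h : uA = ⁅genUnit genA1 genA1Inv invGen_ok.1, genUnit genA2 genA2Inv invGen_ok.2.1⁆ := by
    apply eq_commutator
    rw [genUnit, genUnit, unitC_val, unitC_val, uA_val]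
    rw [← toMat_mul _ _ (codeWord_length _ (genWord_lt genA2)), ← toMat_mul _ _ lengths.1,
      comm_ok.1, toMat_mul _ _ (codeWord_length _ (genWord_lt genA1))]
  rw [h]
  exact Subgroup.commutator_mem_commutator (genUnit_mem genA1 genA1Inv invGen_ok.1)
    (genUnit_mem genA2 genA2Inv invGen_ok.2.1)

theorem uB_mem : uB ∈ ⁅ree3, ree3⁆ := by
  have h : uB = ⁅genUnit genB1 genB1Inv invGen_ok.2.2.1, genUnit genB2 genB2Inv invGen_ok.2.2.2⁆ := by
    apply eq_commutator
    rw [genUnit, genUnit, unitC_val, unitC_val, uB_val]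
    rw [← toMat_mul _ _ (codeWord_length _ (genWord_lt genB2)), ← toMat_mul _ _ lengths.2.1,
      comm_ok.2.1, toMat_mul _ _ (codeWord_length _ (genWord_lt genB1))]
  rw [h]
  exact Subgroup.commutator_mem_commutator (genUnit_mem genB1 genB1Inv invGen_ok.2.2.1)
    (genUnit_mem genB2 genB2Inv invGen_ok.2.2.2)

theorem mem_derivedH {x : Amb} {i : ℕ} (hi : i < 504)
    (h : (x : Matrix (Fin 2 ⊕ Fin 12) (Fin 2 ⊕ Fin 12) (ZMod 3)) = toMat (gC i)) :
    x ∈ derivedH := by
  obtain ⟨y, hy, h1, -⟩ := exists_mem i hi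
  rw [← map_fst]
  exact ⟨y, hy, Units.ext (h1.trans h.symm)⟩

theorem conj_uA : uC * uA * uC⁻¹ ∈ derivedH ∧ uC * uB * uC⁻¹ ∈ derivedH := by
  obtain ⟨ha, hla, hb, hlb⟩ := conj_ok
  obtain ⟨y, -, h1, -⟩ := exists_mem conjA hla
  obtain ⟨z, -, h2, -⟩ := exists_mem conjB hlb
  constructor
  · refine mem_derivedH hla ?_
    rw [← h1]
    refine congrArg Units.val ((mul_inv_eq_iff_eq_mul).mpr (Units.ext ?_))
    rw [Units.val_mul, Units.val_mul, uC_val, uA_val, h1, ← toMat_mul _ _ lengths.2.2.1, ha, toMat_mul _ _ (gC_length _ hla)]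
  · refine mem_derivedH hlb ?_
    rw [← h2]
    refine congrArg Units.val ((mul_inv_eq_iff_eq_mul).mpr (Units.ext ?_))
    rw [Units.val_mul, Units.val_mul, uC_val, uB_val, h2, ← toMat_mul _ _ lengths.2.2.1, hb, toMat_mul _ _ (gC_length _ hlb)]

theorem uC_normalizes : uC ∈ Subgroup.normalizer (derivedH : Set Amb) := by
  refine Subgroup.mem_normalizer_fintype fun n hn => ?_
  have : derivedH ≤ derivedH.comap (MulAut.conj uC).toMonoidHom := by
    rw [derivedH, Subgroup.closure_le]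
    rintro y (rfl | rfl)
    exacts [conj_uA.1, conj_uA.2]
  exact this hn

theorem generators_le {x : Amb} (hx : ∃ w ∈ g2Words (ZMod 3) 1,
    (x : Matrix (Fin 2 ⊕ Fin 12) (Fin 2 ⊕ Fin 12) (ZMod 3)) = chevG2.wordMat (ZMod 3) w) :
    ∃ h ∈ derivedH, ∃ k : ℕ, x = h * uC ^ k := by
  obtain ⟨w, ⟨t, u, v, hw⟩, hx⟩ := hx
  obtain ⟨b, hb⟩ : ∃ b : Bool, w = genWord (b, t, u, v) := by
    rcases hw with rfl | rfl
    exacts [⟨false, rfl⟩, ⟨true, rfl⟩]
  obtain ⟨hi, he⟩ := gen_ok (b, t, u, v)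
  obtain ⟨y, hy, h1, -⟩ := exists_mem _ hi
  refine ⟨y.1, mem_derivedH hi h1, (look 32 genDataBlocks (genIdx (b, t, u, v)) (0, 0)).2,
    Units.ext ?_⟩
  have hpow : ∀ k, ((uC ^ k : Amb) : Matrix (Fin 2 ⊕ Fin 12) (Fin 2 ⊕ Fin 12) (ZMod 3)) =
      toMat (powC k) := by
    intro k
    induction k with
    | zero => exact toMat_one.symm
    | succ k ih =>
      rw [pow_succ, Units.val_mul, ih, powC, toMat_mul _ _ (powC_length k)]
      rfl
  rw [Units.val_mul, hpow, h1, ← toMat_mul _ _ (gC_length _ hi), ← he,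
    toMat_codeWord _ (genWord_lt _), hx, hb]

theorem commutator_ree3 : ⁅ree3, ree3⁆ = derivedH := by
  refine le_antisymm ?_ ?_
  · set N := Subgroup.normalizer (derivedH : Set Amb)
    have hHN : derivedH ≤ N := Subgroup.le_normalizer
    let c : N := ⟨uC, uC_normalizes⟩
    let K : Subgroup N := (Subgroup.zpowers (QuotientGroup.mk' (derivedH.subgroupOf N) c)).comap
      (QuotientGroup.mk' (derivedH.subgroupOf N))
    have hle : ree3 ≤ K.map N.subtype := by
      refine (Subgroup.closure_le _).mpr fun x hx => ?_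
      obtain ⟨h, hh, k, rfl⟩ := generators_le hx
      refine ⟨⟨h, hHN hh⟩ * c ^ k, ?_, rfl⟩
      show QuotientGroup.mk' _ _ ∈ Subgroup.zpowers _
      rw [map_mul, map_pow, show QuotientGroup.mk' (derivedH.subgroupOf N) ⟨h, hHN hh⟩ = 1 from
        (QuotientGroup.eq_one_iff _).mpr hh, one_mul]
      exact Subgroup.npow_mem_zpowers _ _
    refine Subgroup.commutator_le.mpr fun a ha b hb => ?_
    obtain ⟨a', ha', rfl⟩ := hle ha
    obtain ⟨b', hb', rfl⟩ := hle hb
    obtain ⟨m, hm⟩ := ha'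
    obtain ⟨n, hn⟩ := hb'
    rw [← map_commutatorElement]
    show ⁅a', b'⁆ ∈ derivedH.subgroupOf N
    rw [← QuotientGroup.eq_one_iff]
    show QuotientGroup.mk' (derivedH.subgroupOf N) ⁅a', b'⁆ = 1
    rw [map_commutatorElement, ← hm, ← hn, commutatorElement_eq_one_iff_mul_comm,
      ← zpow_add, ← zpow_add, add_comm]
  · rw [derivedH, Subgroup.closure_le]
    rintro y (rfl | rfl)
    exacts [uA_mem, uB_mem]

/-- `²G₂(3)' ≅ SL₂(8)`. -/
theorem commutator_equiv :
    Nonempty (↥(commutator ↥ree3) ≃* Matrix.SpecialLinearGroup (Fin 2) F8) := by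
  obtain ⟨e⟩ := derivedH_equiv
  refine ⟨(((commutator ↥ree3).equivMapOfInjective ree3.subtype ree3.subtype_injective).trans
    (MulEquiv.subgroupCongr ?_)).trans e⟩
  rw [Subgroup.map_subtype_commutator, commutator_ree3]

theorem center_sl2_f8 : Subgroup.center (Matrix.SpecialLinearGroup (Fin 2) F8) = ⊥ := by
  refine (Subgroup.eq_bot_iff_forall _).mpr fun z hz => ?_
  obtain ⟨r, hr, hz⟩ := Matrix.SpecialLinearGroup.mem_center_iff.mp hz
  have key : ∀ a : F8, a ^ 2 = 1 → a = 1 := by decide +kernel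
  rw [Fintype.card_fin] at hr
  rw [key r hr, map_one] at hz
  exact Subtype.ext hz.symm

end CfsgLib.Ree3
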